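import Groth.Agent.LangGrpLib.Mass
import Mathlib.AlgebraicGeometry.Sites.Fpqc

/-!
Rational points over finite fields: finiteness, and trivialisation of torsors given in the fppf topology.
-/

set_option autoImplicit false
set_option backward.isDefEq.respectTransparency false
set_option backward.isDefEq.respectTransparency.types false

universe u

open CategoryTheory CategoryTheory.Limits AlgebraicGeometry MonoidalCategory CartesianMonoidalCategory
open scoped MonObj

noncomputable section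

namespace Groth.Agent.LangGrpLib

variable {k : Type u} [Field k] [Fintype k]

local notation "T₀" => 𝟙_ (Over (Spec (CommRingCat.of k)))

theorem finite_points (X : Over (Spec (CommRingCat.of k))) [LocallyOfFiniteType X.hom] [QuasiCompact X.hom] :
    Finite (T₀ ⟶ X) := by
  haveI : CompactSpace ↥X.left := QuasiCompact.compactSpace_of_compactSpace X.hom
  let 𝒰 := X.left.affineCover.finiteSubcover
  have hf : ∀ i, LocallyOfFiniteType (𝒰.f i ≫ X.hom) := fun i => inferInstance
  haveI : ∀ i, IsAffine (𝒰.X i) := fun i => inferInstanceAs (IsAffine (X.left.affineCover.X _))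
  have hfin : ∀ i, Finite {s : (T₀).left ⟶ 𝒰.X i // s ≫ 𝒰.f i ≫ X.hom = (T₀).hom} := fun i => by
    obtain ⟨c, hc⟩ := Spec.map_surjective ((𝒰.X i).isoSpec.inv ≫ 𝒰.f i ≫ X.hom)
    letI : Algebra k Γ(𝒰.X i, ⊤) := c.hom.toAlgebra
    have hft : c.hom.FiniteType := by
      have : LocallyOfFiniteType (Spec.map c) := by rw [hc]; infer_instance
      exact (HasRingHomProperty.Spec_iff (P := @LocallyOfFiniteType)).1 this
    haveI : Algebra.FiniteType k Γ(𝒰.X i, ⊤) := hft
    obtain ⟨n, π, hπ⟩ := Algebra.FiniteType.iff_quotient_mvPolynomial''.1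
      (inferInstance : Algebra.FiniteType k Γ(𝒰.X i, ⊤))
    haveI : Finite (Γ(𝒰.X i, ⊤) →ₐ[k] k) :=
      Finite.of_injective (β := Fin n → k) (fun f j => f (π (MvPolynomial.X j))) fun f g h => by
        refine AlgHom.ext fun a => ?_
        obtain ⟨p, rfl⟩ := hπ a
        exact DFunLike.congr_fun (MvPolynomial.algHom_ext (f := f.comp π) (g := g.comp π) (congrFun h)) p
    have hex : ∀ s : {s : (T₀).left ⟶ 𝒰.X i // s ≫ 𝒰.f i ≫ X.hom = (T₀).hom}, ∃ f : Γ(𝒰.X i, ⊤) →ₐ[k] k,
        Spec.map (CommRingCat.ofHom f.toRingHom) ≫ (𝒰.X i).isoSpec.inv = s.1 := by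
      rintro ⟨s, hs⟩
      obtain ⟨φ, hφ⟩ := Spec.map_surjective (s ≫ (𝒰.X i).isoSpec.hom)
      have e : c ≫ φ = 𝟙 _ := Spec.map_injective (by
        rw [Spec.map_comp, hφ, hc, Category.assoc, Iso.hom_inv_id_assoc, Spec.map_id]; exact hs)
      let f : Γ(𝒰.X i, ⊤) →ₐ[k] k :=
        { toRingHom := φ.hom
          commutes' := fun a => congrArg (fun ψ : CommRingCat.of k ⟶ CommRingCat.of k => ψ.hom a) e }
      refine ⟨f, ?_⟩
      rw [show CommRingCat.ofHom f.toRingHom = φ from rfl, hφ, Category.assoc, Iso.hom_inv_id, Category.comp_id]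
    choose F hF using hex
    exact Finite.of_injective F fun a b h => Subtype.ext (by rw [← hF a, ← hF b, h])
  haveI := hfin
  let Ψ : (Σ i, {s : (T₀).left ⟶ 𝒰.X i // s ≫ 𝒰.f i ≫ X.hom = (T₀).hom}) → (T₀ ⟶ X) := fun s =>
    Over.homMk (s.2.1 ≫ 𝒰.f s.1) (by rw [Category.assoc]; exact s.2.2)
  refine Finite.of_surjective Ψ fun x => ?_
  obtain ⟨z⟩ : Nonempty ↥(T₀).left := inferInstanceAs (Nonempty (PrimeSpectrum k))
  obtain ⟨i, w, hw⟩ := 𝒰.exists_eq (x.left z)
  have hr : Set.range x.left ⊆ Set.range (𝒰.f i) := by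
    rintro _ ⟨v, rfl⟩
    haveI : Subsingleton ↥(T₀).left := inferInstanceAs (Subsingleton (PrimeSpectrum k))
    exact ⟨w, by rw [hw, Subsingleton.elim v z]⟩
  refine ⟨⟨i, IsOpenImmersion.lift (𝒰.f i) x.left hr, ?_⟩, Over.OverMorphism.ext ?_⟩
  · rw [IsOpenImmersion.lift_fac_assoc]; exact Over.w x
  · exact IsOpenImmersion.lift_fac _ _ hr

theorem exists_geomPoint_of_fppf_section {P : Over (Spec (CommRingCat.of k))} (π : P ⟶ T₀)
    (h : NonAbH1.IsLocallyTrivialFor Scheme.fppfPrecoverage (Over.mk π.left : Over (T₀).left)) :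
    Nonempty (specA k (AlgebraicClosure k) ⟶ P) := by
  obtain ⟨R, hR, hsec⟩ := h
  obtain ⟨J', Z, g, rfl⟩ := Presieve.exists_eq_ofArrows R
  have hR' := (Scheme.ofArrows_mem_precoverage_iff _).1 hR
  obtain ⟨z₀⟩ : Nonempty ↥(T₀).left := inferInstanceAs (Nonempty (PrimeSpectrum k))
  obtain ⟨i, w, -⟩ := hR'.1 z₀
  obtain ⟨s, hs⟩ := hsec (g i) ⟨i⟩
  have := (hR'.2 i).2
  haveI : LocallyOfFinitePresentation (g i) := this
  haveI : LocallyOfFiniteType (g i) := inferInstance
  let Zi : Over (Spec (CommRingCat.of k)) := Over.mk (g i)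
  haveI : Nonempty ↥Zi.left := ⟨w⟩
  haveI : LocallyOfFiniteType Zi.hom := this |> fun _ => inferInstanceAs (LocallyOfFiniteType (g i))
  obtain ⟨x⟩ := exists_point_algClosure Zi
  exact ⟨x ≫ Over.homMk s (by
    show s ≫ P.hom = g i
    rw [← hs]
    show s ≫ P.hom = s ≫ π.left
    rw [← Over.w π]
    exact congrArg (s ≫ ·) (Category.comp_id _))⟩

theorem mass_quotSt {X G : Over (Spec (CommRingCat.of k))} [GrpObj G] (aX : AlgGrp.Action G X)
    [IsAffine G.left] [LocallyOfFiniteType G.hom] [ConnectedSpace ↥G.left] [Finite (T₀ ⟶ X)] [Finite (T₀ ⟶ G)] :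
    Finite (Quotient (isIsomorphicSetoid ((AlgSt.QuotSt Scheme.fppfPrecoverage G aX).p.Fiber T₀))) ∧
      (∀ ξ : ((AlgSt.QuotSt Scheme.fppfPrecoverage G aX).p.Fiber T₀), Finite (Aut ξ)) ∧
      ∑ᶠ c : Quotient (isIsomorphicSetoid ((AlgSt.QuotSt Scheme.fppfPrecoverage G aX).p.Fiber T₀)),
        ((Nat.card (Aut c.out) : ℚ))⁻¹ = (Nat.card (T₀ ⟶ X) : ℚ) / (Nat.card (T₀ ⟶ G) : ℚ) := by
  haveI : (@Flat ⊓ @LocallyOfFinitePresentation : MorphismProperty Scheme.{u}).ContainsIdentities :=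
    ⟨fun X => ⟨inferInstance, inferInstance⟩⟩
  haveI : (@Flat ⊓ @LocallyOfFinitePresentation : MorphismProperty Scheme.{u}).RespectsIso := inferInstance
  haveI : Scheme.fppfPrecoverage.{u}.HasIsos :=
    inferInstanceAs (Scheme.precoverage (@Flat ⊓ @LocallyOfFinitePresentation)).HasIsos
  refine mass_formula fun ξ => ?_
  obtain ⟨A, hA⟩ := ξ
  cases A with
  | mk base P act π cart loc φ eqv =>
    change base = T₀ at hA
    subst hA
    haveI : IsIso (lift act.act (snd G P)) := by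
      have hπ : π = toUnit P := toUnit_unique _ _
      rw [hπ] at cart
      refine ⟨cart.lift (fst P P) (snd P P) (toUnit_unique _ _), ?_, ?_⟩
      · apply cart.hom_ext <;> simp [Category.assoc]
      · apply CartesianMonoidalCategory.hom_ext <;> simp [Category.assoc]
    obtain ⟨x⟩ := exists_geomPoint_of_fppf_section π loc
    exact torsor_has_point_of act x

end Groth.Agent.LangGrpLib
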