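import Groth.Agent.LangGrpLib.Apps
import Groth.Prelude.Def_AlgSt5

/-!
The mass of the groupoid of rational points of a quotient stack all of whose torsors are trivial.
-/

set_option autoImplicit false
set_option backward.isDefEq.respectTransparency false
set_option backward.isDefEq.respectTransparency.types false

universe u

open CategoryTheory CategoryTheory.Limits AlgebraicGeometry MonoidalCategory CartesianMonoidalCategory
open scoped MonObj

noncomputable section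

namespace Groth.Agent.LangGrpLib

variable {S : Scheme.{u}}

local notation "T₀" => 𝟙_ (Over S)

theorem endo_terminal_eq (f g : (T₀ : Over S) ⟶ T₀) : f = g := toUnit_unique f g

variable {K : Precoverage Scheme.{u}} {G X : Over S} [GrpObj G] {aX : AlgGrp.Action G X}

theorem mul_smul_pull {T Z : Over S} (b : AlgGrp.Action G Z) (z : T ⟶ Z) :
    (AlgSt.leftMul G T).act ≫ smulP b (fst G T) (snd G T ≫ z) =
      smulP b (fst G (G ⊗ T)) (snd G (G ⊗ T) ≫ smulP b (fst G T) (snd G T ≫ z)) := by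
  rw [comp_smulP, comp_smulP, ← smulP_mul, ← Category.assoc _ (snd G T) z, ← Category.assoc _ (snd G T) z]
  all_goals simp [AlgSt.leftMul]

theorem whiskerLeft_smulP {T Z : Over S} (b : AlgGrp.Action G Z) (f : T ⟶ Z) :
    (G ◁ f) ≫ b.act = smulP b (fst G T) (snd G T ≫ f) := by
  rw [smulP]
  congr 1



variable [K.HasIsos]

theorem isLocallyTrivialFor_of_section {T P : Over S} (π : P ⟶ T) (s : T ⟶ P) (hs : s ≫ π = 𝟙 T) :
    NonAbH1.IsLocallyTrivialFor K (Over.mk π.left : Over T.left) := by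
  refine ⟨Presieve.singleton (𝟙 T.left), Precoverage.mem_coverings_of_isIso (𝟙 T.left), fun S' f hf => ?_⟩
  cases hf
  exact ⟨s.left, congrArg CommaMorphism.left hs⟩

variable (aX) in
/-- The trivial torsor with equivariant map given by a section of `X`. -/
def stdObj (x : T₀ ⟶ X) : AlgSt.QuotObj K G aX where
  base := T₀
  P := G ⊗ T₀
  act := AlgSt.leftMul G T₀
  π := snd G T₀
  cart := AlgSt.isPullback_leftMul T₀
  loc := isLocallyTrivialFor_of_section _ (lift 1 (𝟙 T₀)) (lift_snd _ _)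
  φ := smulP aX (fst G T₀) (snd G T₀ ≫ x)
  eqv := by
    rw [mul_smul_pull, whiskerLeft_smulP]

theorem isHomLift_fibre {A B : AlgSt.QuotObj K G aX} (hA : A.base = T₀) (hB : B.base = T₀) (f : A ⟶ B) :
    (AlgSt.QuotSt K G aX).p.IsHomLift (𝟙 T₀) f := by
  refine IsHomLift.of_fac' _ _ _ hA hB ?_
  apply (cancel_epi (eqToHom hA.symm)).1
  apply (cancel_mono (eqToHom hB)).1
  exact endo_terminal_eq _ _

abbrev Fib₀ := (AlgSt.QuotSt K G aX).p.Fiber T₀

/-- Every morphism over a point is invertible. -/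
theorem isIso_hom {ξ ω : Fib₀ (K := K) (aX := aX)} (f : ξ ⟶ ω) : IsIso f := by
  obtain ⟨A, hA⟩ := ξ
  obtain ⟨B, hB⟩ := ω
  obtain ⟨f, hf⟩ := f
  have hb : IsIso f.base := by
    refine ⟨eqToHom (hB.trans hA.symm), ?_, ?_⟩
    · apply (cancel_epi (eqToHom hA.symm)).1
      apply (cancel_mono (eqToHom hA)).1
      exact endo_terminal_eq _ _
    · apply (cancel_epi (eqToHom hB.symm)).1
      apply (cancel_mono (eqToHom hB)).1
      exact endo_terminal_eq _ _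
  haveI : IsIso f.top := f.cart.isIso_fst_of_isIso
  let g : B ⟶ A :=
    { base := inv f.base
      top := inv f.top
      eqv := by
        rw [IsIso.comp_inv_eq, Category.assoc, f.eqv, ← MonoidalCategory.whiskerLeft_comp_assoc, IsIso.inv_hom_id,
          MonoidalCategory.whiskerLeft_id, Category.id_comp]
      cart := IsPullback.of_horiz_isIso ⟨by rw [IsIso.eq_comp_inv, Category.assoc, ← f.cart.w, IsIso.inv_hom_id_assoc]⟩
      wφ := by rw [IsIso.inv_comp_eq, f.wφ] }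
  refine ⟨⟨g, isHomLift_fibre hB hA g⟩, Subtype.ext (AlgSt.QuotObj.hom_ext ?_ ?_), Subtype.ext (AlgSt.QuotObj.hom_ext ?_ ?_)⟩
  · exact IsIso.hom_inv_id f.base
  · exact IsIso.hom_inv_id f.top
  · exact IsIso.inv_hom_id f.base
  · exact IsIso.inv_hom_id f.top

variable (aX) in
/-- The class of the trivial torsor of a section. -/
def stdFib (x : T₀ ⟶ X) : Fib₀ (K := K) (aX := aX) := ⟨stdObj aX x, rfl⟩

theorem section_smulP {Z : Over S} (b : AlgGrp.Action G Z) (z : T₀ ⟶ Z) :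
    lift 1 (𝟙 T₀) ≫ smulP b (fst G T₀) (snd G T₀ ≫ z) = z := by
  rw [comp_smulP, lift_fst, lift_snd_assoc, Category.id_comp, smulP_one]

theorem nonempty_homEquiv (ξ : Fib₀ (K := K) (aX := aX)) :
    Nonempty ((Σ x : T₀ ⟶ X, (stdFib aX x ⟶ ξ)) ≃ (T₀ ⟶ ξ.1.P)) := by
  let F : (Σ x : T₀ ⟶ X, (stdFib aX x ⟶ ξ)) → (T₀ ⟶ ξ.1.P) := fun s =>
    lift 1 (𝟙 T₀) ≫ (show stdObj aX s.1 ⟶ ξ.1 from s.2.1).top
  have htop : ∀ (x : T₀ ⟶ X) (f : stdObj aX x ⟶ ξ.1),
      f.top = smulP ξ.1.act (fst G T₀) (snd G T₀ ≫ lift 1 (𝟙 T₀) ≫ f.top) := fun x f => by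
    have e := congrArg (lift (fst G T₀) (snd G T₀ ≫ lift 1 (𝟙 T₀)) ≫ ·) f.eqv
    simp only [lift_whiskerLeft_assoc, Category.assoc] at e
    refine Eq.trans ?_ (e.trans rfl)
    rw [show (stdObj (K := K) aX x).act = AlgSt.leftMul G T₀ from rfl]
    conv_lhs => rw [← Category.id_comp f.top]
    rw [← Category.assoc]
    congr 1
    apply CartesianMonoidalCategory.hom_ext
    · simp [AlgSt.leftMul, stdObj, MonObj.comp_mul, comp_lift]
    · exact toUnit_unique _ _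
  refine ⟨Equiv.ofBijective F ⟨?_, ?_⟩⟩
  · rintro ⟨x, f, hf⟩ ⟨y, g, hg⟩ h
    have hx : x = y := by
      have h1 := congrArg (· ≫ ξ.1.φ) h
      simp only [F, Category.assoc] at h1
      change lift 1 (𝟙 T₀) ≫ (f : stdObj aX x ⟶ ξ.1).top ≫ _ = lift 1 (𝟙 T₀) ≫ (g : stdObj aX y ⟶ ξ.1).top ≫ _ at h1
      rw [(f : stdObj aX x ⟶ ξ.1).wφ, (g : stdObj aX y ⟶ ξ.1).wφ] at h1
      exact (section_smulP aX x).symm.trans (h1.trans (section_smulP aX y))
    subst hx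
    congr 1
    refine Subtype.ext (AlgSt.QuotObj.hom_ext ?_ ?_)
    · apply (cancel_mono (eqToHom ξ.2)).1
      exact toUnit_unique _ _
    · change lift 1 (𝟙 T₀) ≫ (f : stdObj aX x ⟶ ξ.1).top = lift 1 (𝟙 T₀) ≫ (g : stdObj aX x ⟶ ξ.1).top at h
      exact (htop x f).trans ((congrArg (fun z => smulP ξ.1.act (fst G T₀) (snd G T₀ ≫ z)) h).trans (htop x g).symm)
  · intro p
    let b : T₀ ⟶ ξ.1.base := p ≫ ξ.1.π
    let f : stdObj aX (p ≫ ξ.1.φ) ⟶ ξ.1 :=
      { base := b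
        top := smulP ξ.1.act (fst G T₀) (snd G T₀ ≫ p)
        eqv := by
          rw [whiskerLeft_smulP]
          exact mul_smul_pull ξ.1.act p
        cart := by
          rw [← whiskerLeft_smulP]
          exact (AlgSt.isPullback_whiskerLeft p).paste_horiz ξ.1.cart
        wφ := by
          rw [← whiskerLeft_smulP, Category.assoc, ξ.1.eqv, ← MonoidalCategory.whiskerLeft_comp_assoc]
          exact whiskerLeft_smulP aX (p ≫ ξ.1.φ) }
    exact ⟨⟨p ≫ ξ.1.φ, f, isHomLift_fibre rfl ξ.2 f⟩, section_smulP ξ.1.act p⟩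

theorem nonempty_points_equiv (ξ : Fib₀ (K := K) (aX := aX)) (p₀ : T₀ ⟶ ξ.1.P) :
    Nonempty ((T₀ ⟶ G) ≃ (T₀ ⟶ ξ.1.P)) := by
  refine ⟨Equiv.ofBijective (fun g => lift g p₀ ≫ ξ.1.act.act) ⟨fun g g' h => ?_, fun p => ?_⟩⟩
  · have : lift g p₀ = lift g' p₀ := ξ.1.cart.hom_ext h (by rw [lift_snd, lift_snd])
    simpa using congrArg (· ≫ fst G ξ.1.P) this
  · have hw : p ≫ ξ.1.π = p₀ ≫ ξ.1.π := by
      apply (cancel_mono (eqToHom ξ.2)).1
      exact toUnit_unique _ _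
    refine ⟨ξ.1.cart.lift p p₀ hw ≫ fst G ξ.1.P, ?_⟩
    have e : lift (ξ.1.cart.lift p p₀ hw ≫ fst G ξ.1.P) p₀ = ξ.1.cart.lift p p₀ hw := by
      conv_rhs => rw [← Category.comp_id (ξ.1.cart.lift p p₀ hw), ← lift_fst_snd, comp_lift, IsPullback.lift_snd]
    show lift _ p₀ ≫ _ = p
    rw [e, IsPullback.lift_fst]

theorem mass_formula [Finite (T₀ ⟶ X)] [Finite (T₀ ⟶ G)]
    (htriv : ∀ ξ : Fib₀ (K := K) (aX := aX), Nonempty (T₀ ⟶ ξ.1.P)) :
    Finite (Quotient (isIsomorphicSetoid (Fib₀ (K := K) (aX := aX)))) ∧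
      (∀ ξ : Fib₀ (K := K) (aX := aX), Finite (Aut ξ)) ∧
      ∑ᶠ c : Quotient (isIsomorphicSetoid (Fib₀ (K := K) (aX := aX))), ((Nat.card (Aut c.out) : ℚ))⁻¹ =
        (Nat.card (T₀ ⟶ X) : ℚ) / (Nat.card (T₀ ⟶ G) : ℚ) := by
  classical
  let Q := Quotient (isIsomorphicSetoid (Fib₀ (K := K) (aX := aX)))
  let Ψ : (T₀ ⟶ X) → Q := fun x => Quotient.mk _ (stdFib aX x)
  have hP : ∀ ξ : Fib₀ (K := K) (aX := aX), Finite (T₀ ⟶ ξ.1.P) ∧ Nat.card (T₀ ⟶ ξ.1.P) = Nat.card (T₀ ⟶ G) := by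
    intro ξ
    obtain ⟨p₀⟩ := htriv ξ
    obtain ⟨e⟩ := nonempty_points_equiv ξ p₀
    exact ⟨Finite.of_equiv _ e, (Nat.card_congr e).symm⟩
  have hmem : ∀ ξ (x : T₀ ⟶ X), Ψ x = Quotient.mk _ ξ → Nonempty (stdFib aX x ≅ ξ) := fun ξ x h => Quotient.exact h
  have hsurj : Function.Surjective Ψ := fun c => by
    induction c using Quotient.ind with | _ ξ =>
    obtain ⟨p₀⟩ := htriv ξ
    obtain ⟨e⟩ := nonempty_homEquiv ξ
    haveI := isIso_hom (e.symm p₀).2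
    exact ⟨(e.symm p₀).1, Quotient.sound ⟨asIso (e.symm p₀).2⟩⟩
  have hcount : ∀ ξ : Fib₀ (K := K) (aX := aX), Nonempty ((T₀ ⟶ ξ.1.P) ≃ {x // Ψ x = Quotient.mk _ ξ} × Aut ξ) := by
    intro ξ
    obtain ⟨e⟩ := nonempty_homEquiv ξ
    let cI : ∀ x, Ψ x = Quotient.mk _ ξ → (stdFib aX x ≅ ξ) := fun x h => (hmem ξ x h).some
    have iso : ∀ x, (stdFib aX x ⟶ ξ) → Ψ x = Quotient.mk _ ξ := fun x f =>
      haveI := isIso_hom f; Quotient.sound ⟨asIso f⟩
    refine ⟨e.symm.trans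
      { toFun := fun s => (⟨s.1, iso s.1 s.2⟩, haveI := isIso_hom s.2; (cI s.1 (iso s.1 s.2)).symm ≪≫ asIso s.2)
        invFun := fun t => ⟨t.1.1, (cI t.1.1 t.1.2).hom ≫ t.2.hom⟩
        left_inv := fun s => by
          obtain ⟨x, f⟩ := s
          simp
        right_inv := fun t => by
          obtain ⟨⟨x, hx⟩, a⟩ := t
          refine Prod.ext rfl ?_
          apply Iso.ext
          simp }⟩
  haveI hQ : Finite Q := Finite.of_surjective Ψ hsurj
  have hAut : ∀ ξ : Fib₀ (K := K) (aX := aX), Finite (Aut ξ) := fun ξ => by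
    obtain ⟨e⟩ := hcount ξ
    haveI := (hP ξ).1
    obtain ⟨x, hx⟩ := hsurj (Quotient.mk _ ξ)
    exact Finite.of_injective (fun a => e.symm (⟨x, hx⟩, a)) fun a b h => (Prod.ext_iff.1 (e.symm.injective h)).2
  refine ⟨hQ, hAut, ?_⟩
  haveI := Fintype.ofFinite Q
  rw [finsum_eq_sum_of_fintype]
  have hG : (0 : ℚ) < (Nat.card (T₀ ⟶ G) : ℚ) := by
    haveI : Nonempty (T₀ ⟶ G) := ⟨1⟩
    exact_mod_cast Nat.card_pos
  have hterm : ∀ c : Q, ((Nat.card (Aut c.out) : ℚ))⁻¹ = (Nat.card {x // Ψ x = c} : ℚ) / (Nat.card (T₀ ⟶ G) : ℚ) := by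
    intro c
    obtain ⟨e⟩ := hcount c.out
    have h := (Nat.card_congr e).symm.trans (hP c.out).2
    rw [Nat.card_prod, Quotient.out_eq] at h
    haveI := hAut c.out
    haveI : Nonempty (Aut c.out) := ⟨Iso.refl _⟩
    have ha : (Nat.card (Aut c.out) : ℚ) ≠ 0 := by exact_mod_cast (Nat.card_pos (α := Aut c.out)).ne'
    rw [eq_div_iff hG.ne', ← h, Nat.cast_mul]
    field_simp
  simp only [hterm]
  rw [← Finset.sum_div, ← Nat.cast_sum]
  congr 2
  rw [← Nat.card_sigma]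
  exact Nat.card_congr (Equiv.sigmaFiberEquiv Ψ)

end Groth.Agent.LangGrpLib
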